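import Mathlib
import Cfsg.Agent.Golay.Orbits
import Cfsg.Prelude.Def_Spor_Mathieu
import Cfsg.Agent.TwoGroups.MathieuTriples.Data

/-!
# Generation of `M23` from programs
-/

set_option autoImplicit false
set_option maxRecDepth 20000

open Cfsg Cfsg.Agent.Golay

namespace Cfsg.Agent.TwoGroups.MathieuTriples

/-- The code of an entry of a program. -/
def code (P : List (ℕ × ℕ × ℕ)) (i : ℕ) : ℕ := (P.getD i (0, 0, 0)).1

/-- A program starting with `n` given permutations is valid. -/
def progOK (n : ℕ) (P : List (ℕ × ℕ × ℕ)) : Bool :=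
  (List.range P.length).all fun i =>
    let e := P.getD i (0, 0, 0)
    permOK e.1 && (decide (i < n) ||
      (decide (e.2.1 < i) && decide (e.2.2 < i) && isComp e.1 (code P e.2.1) (code P e.2.2)))

theorem prog_mem {n : ℕ} {P : List (ℕ × ℕ × ℕ)} (h : progOK n P = true)
    {H : Subgroup (Equiv.Perm GolayPt)} (hn : ∀ i < n, i < P.length → permOf (code P i) ∈ H) :
    ∀ i < P.length, permOK (code P i) = true ∧ permOf (code P i) ∈ H := by
  intro i
  induction i using Nat.strong_induction_on with
  | _ i ih =>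
    intro hi
    have h' := List.all_eq_true.1 h i (List.mem_range.2 hi)
    simp only [Bool.and_eq_true, Bool.or_eq_true, decide_eq_true_eq] at h'
    obtain ⟨hok, h'⟩ := h'
    refine ⟨hok, ?_⟩
    rcases h' with h1 | ⟨⟨ha, hb⟩, hc⟩
    · exact hn i h1 hi
    · obtain ⟨ha1, ha2⟩ := ih _ ha (ha.trans hi)
      obtain ⟨hb1, hb2⟩ := ih _ hb (hb.trans hi)
      rw [show permOf (code P i) = _ from permOf_mul hok ha1 hb1 hc]
      exact mul_mem ha2 hb2

theorem chainProg_ok : progOK 2 chainProg = true := by decide +kernel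

theorem chainProg_first : code chainProg 0 = shiftCode ∧ code chainProg 1 = cubeTwistCode := by
  decide +kernel

/-- The transversal at level `k + 1` covers the targets. -/
def levelOK (k : ℕ) : Bool :=
  (List.range 24).all fun t =>
    !(targetMasks.getD (k + 1) 0).testBit t || t == basePts.getD (k + 1) 0 ||
      (chainTrans.getD k []).any fun j => decide (j < chainProg.length) &&
        app (code chainProg j) (basePts.getD (k + 1) 0) == t &&
        (basePts.take (k + 1)).all fun x => app (code chainProg j) x == x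

theorem levels_ok : (List.range 6).all levelOK = true := by decide +kernel

theorem level_spec (H : Subgroup (Equiv.Perm GolayPt)) (h0 : permOf shiftCode ∈ H)
    (h1 : permOf cubeTwistCode ∈ H) (k : ℕ) (hk : k < 6) :
    ∀ t ∈ bset (targetMasks.getD (k + 1) 0),
      ∃ h ∈ lvl H (k + 1), h (pt (basePts.getD (k + 1) 0)) = t := by
  intro t ht
  have h := List.all_eq_true.1 levels_ok k (List.mem_range.2 hk)
  simp only [levelOK, List.all_eq_true, List.any_eq_true, Bool.or_eq_true, Bool.and_eq_true,
    decide_eq_true_eq, beq_iff_eq, Bool.not_eq_true'] at h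
  have hb24 : ∀ x ∈ basePts, x < 24 := by decide +kernel
  have hbk : basePts.getD (k + 1) 0 < 24 :=
    (by decide +kernel : ∀ k < 7, basePts.getD k 0 < 24) _ (by omega)
  rcases h (idx t) (List.mem_range.2 (idx_lt t)) with (e0 | e1) | ⟨j, -, ⟨hj, hj1⟩, hj2⟩
  · rw [mem_bset, e0] at ht; simp at ht
  · exact ⟨1, one_mem _, by rw [← e1, pt_idx]; rfl⟩
  · obtain ⟨hok, hmem⟩ := prog_mem chainProg_ok (H := H) (fun i hi _ => by
      obtain ⟨c0, c1⟩ := chainProg_first
      interval_cases i
      · rw [c0]; exact h0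
      · rw [c1]; exact h1) j hj
    refine ⟨permOf (code chainProg j), mem_lvl.2 ⟨hmem, fun x hx => ?_⟩, ?_⟩
    · rw [permOf_pt hok (hb24 x (List.mem_of_mem_take hx)), hj2 x hx]
    · rw [permOf_pt hok hbk, hj1, pt_idx]

theorem pt_last : (none : GolayPt) = pt 23 := by decide +kernel

/-- The two permutations generate the stabiliser of the extra point. -/
theorem eq_M23 (H : Subgroup (Equiv.Perm GolayPt)) (hH : H ≤ Cfsg.Spor.M23)
    (h0 : permOf shiftCode ∈ H) (h1 : permOf cubeTwistCode ∈ H) : H = Cfsg.Spor.M23 := by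
  have hM : H ≤ M24 := fun g hg => (hH hg).1
  have hl1 : lvl H 1 = H := by
    ext g
    rw [mem_lvl]
    refine ⟨fun h => h.1, fun h => ⟨h, fun i hi => ?_⟩⟩
    obtain rfl : i = 23 := by simpa [basePts] using hi
    rw [← pt_last]
    exact (hH h).2
  have step : ∀ k < 6, Nat.card (lvl H (k + 1)) =
      pc (targetMasks.getD (k + 1) 0) * Nat.card (lvl H (k + 2)) := by
    intro k hk
    rw [lvl_succ H (show k + 1 < basePts.length from Nat.add_lt_add_right hk 1), ← card_bset]
    exact card_eq_orbit_mul_stab _ _ _ (level_spec H h0 h1 k hk) (lvl_bound H hM (k + 1) (by omega))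
  have htop : lvl H 7 = ⊥ := by
    rw [eq_bot_iff]
    intro g hg
    obtain ⟨hg, hf⟩ := mem_lvl.1 hg
    exact Subgroup.mem_bot.2 (eq_one_of_fix_base (hM hg) hf)
  have e7 : Nat.card (lvl H 7) = 1 := by rw [htop]; exact Subgroup.card_bot
  refine Subgroup.eq_of_le_of_card_ge hH (le_of_eq ?_)
  conv_rhs => rw [← hl1, step 0 (by norm_num), step 1 (by norm_num), step 2 (by norm_num),
    step 3 (by norm_num), step 4 (by norm_num), step 5 (by norm_num), e7]
  rw [show Nat.card Cfsg.Spor.M23 = 10200960 from M24_stab_card _]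
  decide +kernel

end Cfsg.Agent.TwoGroups.MathieuTriples
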