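import Mathlib

/-!
# The inequality of Scott for permutations of a finite set
-/

set_option autoImplicit false

open scoped Classical

namespace Cfsg.Agent.TwoGroups.MathieuTriples

variable {α : Type*} [Fintype α]

/-- The permutation operator minus one. -/
noncomputable def moved (g : Equiv.Perm α) : (α → ℚ) →ₗ[ℚ] (α → ℚ) :=
  LinearMap.funLeft ℚ ℚ ⇑g - LinearMap.id

theorem moved_apply (g : Equiv.Perm α) (v : α → ℚ) (a : α) : moved g v a = v (g a) - v a := rfl

/-- The rank of the moved part. -/
noncomputable def moveRank (g : Equiv.Perm α) : ℕ := Module.finrank ℚ (LinearMap.range (moved g))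

theorem moveRank_add_orbits (g : Equiv.Perm α) :
    moveRank g + Nat.card (MulAction.orbitRel.Quotient (Subgroup.zpowers g) α) ≤ Fintype.card α := by
  let f : ((MulAction.orbitRel.Quotient (Subgroup.zpowers g) α) → ℚ) →ₗ[ℚ] (α → ℚ) :=
    LinearMap.funLeft ℚ ℚ (Quotient.mk _)
  have hf : Function.Injective f := LinearMap.funLeft_injective_of_surjective _ _ _ Quotient.mk_surjective
  have hle : LinearMap.range f ≤ LinearMap.ker (moved g) := by
    rintro - ⟨u, rfl⟩
    rw [LinearMap.mem_ker]
    refine funext fun a => ?_
    rw [moved_apply, Pi.zero_apply, sub_eq_zero]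
    refine congrArg u (Quotient.sound ?_)
    exact ⟨⟨g, Subgroup.mem_zpowers g⟩, rfl⟩
  have h1 := Submodule.finrank_mono hle
  rw [LinearMap.finrank_range_of_inj hf, Module.finrank_pi, ← Nat.card_eq_fintype_card] at h1
  have h2 := (moved g).finrank_range_add_finrank_ker
  rw [Module.finrank_pi] at h2
  rw [moveRank]
  omega

/-- For a permutation of prime order, a bound by the number of fixed points. -/
theorem moveRank_prime {g : Equiv.Perm α} {p : ℕ} [hp : Fact p.Prime] (hg : orderOf g = p) :
    ∃ k, Fintype.card α + (p - 1) * Nat.card {a // g a = a} = p * k ∧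
      moveRank g + k ≤ Fintype.card α := by
  rw [Nat.card_eq_fintype_card (α := {a // g a = a}), Fintype.card_subtype]
  set Z := Subgroup.zpowers g
  haveI : Fintype Z := Fintype.ofFinite _
  set f := (Finset.univ.filter fun a => g a = a).card
  have hb := MulAction.sum_card_fixedBy_eq_card_orbits_mul_card_group Z α
  have hZ : Fintype.card Z = p := by
    rw [← Nat.card_eq_fintype_card, Nat.card_zpowers, hg]
  have hfix : ∀ z : Z, z ≠ 1 → Fintype.card (MulAction.fixedBy α z) = f := by
    intro z hz
    obtain ⟨k, hk⟩ := Subgroup.mem_zpowers_iff.1 z.2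
    have hgz : g ∈ Subgroup.zpowers (z : Equiv.Perm α) := by
      have htop := zpowers_eq_top_of_prime_card (G := Z) (p := p)
        (by rw [Nat.card_eq_fintype_card, hZ]) hz
      obtain ⟨i, hi⟩ := Subgroup.mem_zpowers_iff.1
        (htop ▸ Subgroup.mem_top (⟨g, Subgroup.mem_zpowers g⟩ : Z) :
          (⟨g, Subgroup.mem_zpowers g⟩ : Z) ∈ Subgroup.zpowers z)
      exact Subgroup.mem_zpowers_iff.2 ⟨i, congrArg Subtype.val hi⟩
    obtain ⟨j, hj⟩ := Subgroup.mem_zpowers_iff.1 hgz
    refine Fintype.card_of_finset' _ fun a => ?_
    rw [Finset.mem_filter, MulAction.mem_fixedBy]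
    refine ⟨fun h => ?_, fun h => ⟨Finset.mem_univ _, ?_⟩⟩
    · show (z : Equiv.Perm α) a = a
      rw [← hk]
      exact Equiv.Perm.zpow_apply_eq_self_of_apply_eq_self h.2 k
    · rw [← hj]
      exact Equiv.Perm.zpow_apply_eq_self_of_apply_eq_self (x := a) h j
  rw [← Finset.add_sum_erase _ _ (Finset.mem_univ (1 : Z)),
    Finset.sum_congr rfl (fun z hz => hfix z (Finset.ne_of_mem_erase hz)), Finset.sum_const,
    Finset.card_erase_of_mem (Finset.mem_univ _), Finset.card_univ, hZ, smul_eq_mul] at hb
  have h1 : Fintype.card (MulAction.fixedBy α (1 : Z)) = Fintype.card α :=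
    Fintype.card_congr ((Equiv.setCongr (Set.ext fun a => by simp)).trans (Equiv.Set.univ α))
  rw [h1] at hb
  have h2 := moveRank_add_orbits g
  have h3 : Fintype.card (MulAction.orbitRel.Quotient Z α) =
      Nat.card (MulAction.orbitRel.Quotient Z α) := Nat.card_eq_fintype_card.symm
  rw [h3] at hb
  exact ⟨_, hb.trans (mul_comm _ _), h2⟩

/-- Scott's inequality: if `x * y * z = 1` and the group of `x`, `y` has at most two orbits,
each with a representative among `o`, `o'`. -/
theorem scott {x y z : Equiv.Perm α} (hxyz : x * y * z = 1) (o o' : α)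
    (htr : ∀ a, a = o ∨ ∃ g ∈ Subgroup.closure ({x, y} : Set (Equiv.Perm α)), g o' = a) :
    2 * Fintype.card α ≤ moveRank x + moveRank y + moveRank z + 4 := by
  set A := LinearMap.funLeft ℚ ℚ ⇑x with hA
  set B := LinearMap.funLeft ℚ ℚ ⇑y with hB
  set C := LinearMap.funLeft ℚ ℚ ⇑z with hC
  set R := LinearMap.range (moved x) with hRx
  set S := LinearMap.range (moved y) with hSy
  set T := LinearMap.range (moved z) with hTz
  let i : (α → ℚ) →ₗ[ℚ] R × S × T :=
    LinearMap.prod (moved x).rangeRestrict
      (LinearMap.prod ((moved y).rangeRestrict.comp A) ((moved z).rangeRestrict.comp (B.comp A)))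
  let f : R × S × T →ₗ[ℚ] (α → ℚ) :=
    LinearMap.coprod R.subtype (LinearMap.coprod S.subtype T.subtype)
  have hzero : LinearMap.range i ≤ LinearMap.ker f := by
    rintro - ⟨v, rfl⟩
    rw [LinearMap.mem_ker]
    refine funext fun a => ?_
    show (v (x a) - v a) + ((v (x (y a)) - v (x a)) + (v (x (y (z a))) - v (x (y a)))) = 0
    have : x (y (z a)) = a := DFunLike.congr_fun hxyz a
    rw [this]
    ring
  -- the kernel of `i` consists of invariant vectors
  let ev : (α → ℚ) →ₗ[ℚ] ℚ × ℚ :=
    LinearMap.prod (LinearMap.proj o) (LinearMap.proj o')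
  have hker : Module.finrank ℚ (LinearMap.ker i) ≤ 2 := by
    have hinj : Function.Injective (ev.comp (LinearMap.ker i).subtype) := by
      rw [injective_iff_map_eq_zero]
      rintro ⟨v, hv⟩ he
      have h1 : moved x v = 0 := congrArg (fun w : R × S × T => ((w.1 : R) : α → ℚ)) hv
      have h2 : moved y (A v) = 0 := congrArg (fun w : R × S × T => ((w.2.1 : S) : α → ℚ)) hv
      have hx1 : ∀ a, v (x a) = v a := fun a => sub_eq_zero.1 (congrFun h1 a)
      have hy1 : ∀ a, v (y a) = v a := fun a => by
        have := sub_eq_zero.1 (congrFun h2 a)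
        change v (x (y a)) = v (x a) at this
        rwa [hx1, hx1] at this
      have hinv : ∀ g ∈ Subgroup.closure ({x, y} : Set (Equiv.Perm α)), ∀ a, v (g a) = v a := by
        intro g hg
        induction hg using Subgroup.closure_induction with
        | mem g hg =>
          rcases hg with rfl | rfl
          exacts [hx1, hy1]
        | one => exact fun a => rfl
        | mul g h _ _ ihg ihh => exact fun a => by rw [Equiv.Perm.mul_apply, ihg, ihh]
        | inv g _ ih =>
          exact fun a => (ih (g⁻¹ a)).symm.trans (congrArg v (g.apply_symm_apply a))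
      have ho : v o = 0 := congrArg Prod.fst he
      have ho' : v o' = 0 := congrArg Prod.snd he
      refine Subtype.ext (funext fun a => ?_)
      rcases htr a with rfl | ⟨g, hg, rfl⟩
      · exact ho
      · show v (g o') = 0
        rw [hinv g hg, ho']
    have := LinearMap.finrank_le_finrank_of_injective hinj
    rwa [Module.finrank_prod, Module.finrank_self] at this
  -- the range of `f` with two vectors is everything
  have hrange : Fintype.card α ≤ Module.finrank ℚ (LinearMap.range f) + 2 := by
    have hmem : ∀ g ∈ Subgroup.closure ({x, y} : Set (Equiv.Perm α)), ∀ v : α → ℚ,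
        v ∘ g - v ∈ LinearMap.range f := by
      intro g hg
      induction hg using Subgroup.closure_induction with
      | mem g hg =>
        rcases hg with rfl | rfl
        · exact fun v => ⟨(⟨_, LinearMap.mem_range_self _ v⟩, 0, 0), by simp [f]; rfl⟩
        · exact fun v => ⟨(0, ⟨_, LinearMap.mem_range_self _ v⟩, 0), by simp [f]; rfl⟩
      | one => exact fun v => by simp
      | mul g h _ _ ihg ihh =>
        intro v
        have := add_mem (ihh (v ∘ g)) (ihg v)
        rwa [sub_add_sub_cancel] at this
      | inv g _ ih =>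
        intro v
        have := neg_mem (ih (v ∘ ⇑g⁻¹))
        rwa [neg_sub, Function.comp_assoc, show (⇑g⁻¹ ∘ ⇑g) = id from funext g.symm_apply_apply,
          Function.comp_id] at this
    let e : α → (α → ℚ) := fun a => Pi.single a 1
    let g' : ℚ × ℚ →ₗ[ℚ] (α → ℚ) :=
      LinearMap.coprod (LinearMap.toSpanSingleton ℚ _ (e o)) (LinearMap.toSpanSingleton ℚ _ (e o'))
    have htop : LinearMap.range f ⊔ LinearMap.range g' = ⊤ := by
      rw [eq_top_iff]
      intro v _
      rw [pi_eq_sum_univ' v]
      refine Submodule.sum_mem _ fun a _ => Submodule.smul_mem _ _ ?_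
      rcases htr a with rfl | ⟨g, hg, rfl⟩
      · exact Submodule.mem_sup_right ⟨(1, 0), by simp [g', e]⟩
      · have h1 : e o' ∘ ⇑g⁻¹ = e (g o') := by
          funext b
          simp only [e, Function.comp_apply, Pi.single_apply]
          congr 1
          rw [eq_iff_iff]
          exact (Equiv.symm_apply_eq g)
        have h2 := hmem _ (inv_mem hg) (e o')
        rw [h1] at h2
        have h3 := Submodule.add_mem_sup h2
          (show e o' ∈ LinearMap.range g' from ⟨(0, 1), by simp [g', e]⟩)
        rwa [sub_add_cancel] at h3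
    have h1 := Submodule.finrank_add_le_finrank_add_finrank (LinearMap.range f) (LinearMap.range g')
    rw [htop, finrank_top, Module.finrank_pi] at h1
    have h2 := LinearMap.finrank_range_le g'
    rw [Module.finrank_prod, Module.finrank_self] at h2
    omega
  have e1 := i.finrank_range_add_finrank_ker
  have e2 := f.finrank_range_add_finrank_ker
  have e3 := Submodule.finrank_mono hzero
  rw [Module.finrank_pi] at e1
  rw [Module.finrank_prod, Module.finrank_prod] at e2
  rw [show moveRank x = Module.finrank ℚ R from rfl, show moveRank y = Module.finrank ℚ S from rfl,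
    show moveRank z = Module.finrank ℚ T from rfl]
  omega

end Cfsg.Agent.TwoGroups.MathieuTriples
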