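import Mathlib
import Cfsg.Agent.TwoGroups.MathieuTriples.Generation
import Cfsg.Agent.TwoGroups.MathieuTriples.Scott
import Cfsg.Agent.M24Orbits.Elements

/-!
# Generation of `M23` by triples of prime orders
-/

set_option autoImplicit false
set_option maxRecDepth 20000

open Cfsg Cfsg.Agent.Golay

namespace Cfsg.Agent.TwoGroups.MathieuTriples

/-- A packed permutation has prime order `p`. -/
def ordB (p c : ℕ) : Bool :=
  ((List.range 24).all fun i => (app c)^[p] i == i) && !((List.range 24).all fun i => app c i == i)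

/-- The check of a record. -/
def recOK : ℕ × ℕ × ℕ × ℕ × ℕ × ℕ × List (ℕ × ℕ × ℕ) → Bool
  | (p, q, r, x, y, z, P) =>
    isAut x && app x 23 == 23 && isAut y && app y 23 == 23 && isAut z && app z 23 == 23 &&
      ordB p x && ordB q y && ordB r z &&
      ((List.range 24).all fun i => app x (app y (app z i)) == i) &&
      progOK 2 P && code P 0 == x && code P 1 == y &&
      ((List.range P.length).any fun i => code P i == shiftCode) &&
      ((List.range P.length).any fun i => code P i == cubeTwistCode)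

theorem triples_ok : triples.all recOK = true := by decide +kernel

/-- The six primes. -/
def primes6 : List ℕ := [2, 3, 5, 7, 11, 23]

/-- The excluded triples. -/
def badB (p q r : ℕ) : Bool :=
  (p == 2 && q == 3) || (p == 2 && q == 5 && r == 5) || (p == 2 && q == 5 && r == 7) ||
    (p == 3 && q == 3 && decide (r ≤ 7))

theorem triples_cover : (primes6.all fun p => primes6.all fun q => primes6.all fun r =>
    !(decide (p ≤ q) && decide (q ≤ r)) || (p == 2 && q == 2) || badB p q r ||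
      triples.any fun e => e.1 == p && e.2.1 == q && e.2.2.1 == r) = true := by
  decide +kernel

theorem mem_primes6 {p : ℕ} (hp : p.Prime) (h : p ∣ 10200960) : p ∈ primes6 := by
  have key : ∀ a b : ℕ, p ∣ a * b → p ∣ a ∨ p ∣ b := fun a b => hp.dvd_mul.1
  have e : (10200960 : ℕ) = 2 ^ 7 * (3 ^ 2 * (5 * (7 * (11 * 23)))) := by norm_num
  rw [e] at h
  have pr : ∀ s n : ℕ, s.Prime → p ∣ s ^ n → p = s := fun s n hs hd =>
    (Nat.prime_dvd_prime_iff_eq hp hs).1 (hp.dvd_of_dvd_pow hd)
  simp only [primes6, List.mem_cons, List.not_mem_nil, or_false]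
  rcases key _ _ h with h | h
  · exact Or.inl (pr 2 7 Nat.prime_two h)
  rcases key _ _ h with h | h
  · exact Or.inr (Or.inl (pr 3 2 Nat.prime_three h))
  rcases key _ _ h with h | h
  · exact Or.inr (Or.inr (Or.inl ((Nat.prime_dvd_prime_iff_eq hp (by norm_num)).1 h)))
  rcases key _ _ h with h | h
  · exact Or.inr (Or.inr (Or.inr (Or.inl ((Nat.prime_dvd_prime_iff_eq hp (by norm_num)).1 h))))
  rcases key _ _ h with h | h
  · exact Or.inr (Or.inr (Or.inr (Or.inr (Or.inl ((Nat.prime_dvd_prime_iff_eq hp (by norm_num)).1 h)))))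
  · exact Or.inr (Or.inr (Or.inr (Or.inr (Or.inr ((Nat.prime_dvd_prime_iff_eq hp (by norm_num)).1 h)))))

theorem permOf_mem_M23 {c : ℕ} (h : isAut c = true) (h23 : app c 23 = 23) :
    permOf c ∈ Cfsg.Spor.M23 :=
  ⟨permOf_mem_M24 h, by
    show permOf c none = none
    rw [pt_last, permOf_pt (permOK_of_isAut h) (by norm_num), h23]⟩

theorem order_of_ordB {p c : ℕ} (hp : p.Prime) (hok : permOK c = true) (h : ordB p c = true) :
    orderOf (permOf c) = p := by
  haveI := Fact.mk hp
  simp only [ordB, Bool.and_eq_true, Bool.not_eq_true', List.all_eq_true, beq_iff_eq,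
    List.mem_range, List.all_eq_false] at h
  have hn : ∀ n q, idx ((permOf c ^ n) q) = (app c)^[n] (idx q) := by
    intro n
    induction n with
    | zero => exact fun q => rfl
    | succ n ih =>
      intro q
      rw [pow_succ, Equiv.Perm.mul_apply, ih, idx_permOf hok, Function.iterate_succ_apply]
  refine orderOf_eq_prime (Equiv.ext fun q => idx_injective ?_) fun e => ?_
  · rw [hn, h.1 _ (idx_lt q), Equiv.Perm.one_apply]
  · obtain ⟨i, hi, hne⟩ := h.2
    have := congrArg (fun σ : Equiv.Perm GolayPt => idx (σ (pt i))) e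
    rw [idx_permOf hok, idx_pt hi, Equiv.Perm.one_apply, idx_pt hi] at this
    exact absurd this (by simpa using hne)

theorem exists_of_record {p q r : ℕ} (hp : p.Prime) (hq : q.Prime) (hr : r.Prime)
    {e : ℕ × ℕ × ℕ × ℕ × ℕ × ℕ × List (ℕ × ℕ × ℕ)} (h : recOK e = true)
    (he : e.1 = p ∧ e.2.1 = q ∧ e.2.2.1 = r) :
    ∃ x y z : Cfsg.Spor.M23, orderOf x = p ∧ orderOf y = q ∧ orderOf z = r ∧ x * y * z = 1 ∧
      Subgroup.closure {x, y} = ⊤ := by
  obtain ⟨p', q', r', x, y, z, P⟩ := e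
  obtain ⟨rfl, rfl, rfl⟩ := he
  simp only [recOK, Bool.and_eq_true, beq_iff_eq, List.all_eq_true, List.any_eq_true,
    List.mem_range] at h
  obtain ⟨⟨⟨⟨⟨⟨⟨⟨⟨⟨⟨⟨⟨⟨hx, hx'⟩, hy⟩, hy'⟩, hz⟩, hz'⟩, ox⟩, oy⟩, oz⟩, hprod⟩, hP⟩, h0⟩, h1⟩, hs⟩, hc⟩ := h
  let X : Cfsg.Spor.M23 := ⟨_, permOf_mem_M23 hx hx'⟩
  let Y : Cfsg.Spor.M23 := ⟨_, permOf_mem_M23 hy hy'⟩
  refine ⟨X, Y, ⟨_, permOf_mem_M23 hz hz'⟩, ?_, ?_, ?_, ?_, ?_⟩
  · rw [← Subgroup.orderOf_coe]; exact order_of_ordB hp (permOK_of_isAut hx) ox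
  · rw [← Subgroup.orderOf_coe]; exact order_of_ordB hq (permOK_of_isAut hy) oy
  · rw [← Subgroup.orderOf_coe]; exact order_of_ordB hr (permOK_of_isAut hz) oz
  · refine Subtype.ext (Equiv.ext fun t => idx_injective ?_)
    show idx (permOf x (permOf y (permOf z t))) = idx t
    rw [idx_permOf (permOK_of_isAut hx), idx_permOf (permOK_of_isAut hy),
      idx_permOf (permOK_of_isAut hz), hprod _ (idx_lt t)]
  · set C := Subgroup.closure ({X, Y} : Set Cfsg.Spor.M23)
    have hmem := prog_mem hP (H := C.map Cfsg.Spor.M23.subtype) fun i hi _ => by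
      interval_cases i
      · rw [h0]; exact ⟨X, Subgroup.subset_closure (Or.inl rfl), rfl⟩
      · rw [h1]; exact ⟨Y, Subgroup.subset_closure (Or.inr rfl), rfl⟩
    obtain ⟨i, hi, ei⟩ := hs
    obtain ⟨j, hj, ej⟩ := hc
    have htop := eq_M23 (C.map Cfsg.Spor.M23.subtype) (Subgroup.map_subtype_le C)
      (ei ▸ (hmem i hi).2) (ej ▸ (hmem j hj).2)
    refine Subgroup.map_injective Cfsg.Spor.M23.subtype_injective ?_
    rw [htop, ← MonoidHom.range_eq_map, Subgroup.range_subtype]

theorem moveRank_M23 (g : Cfsg.Spor.M23) :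
    moveRank (g : Equiv.Perm GolayPt) ≤ 22 ∧
    (orderOf g = 2 → moveRank (g : Equiv.Perm GolayPt) ≤ 8) ∧
    (orderOf g = 3 → moveRank (g : Equiv.Perm GolayPt) ≤ 12) ∧
    (orderOf g = 5 → moveRank (g : Equiv.Perm GolayPt) ≤ 16) ∧
    (orderOf g = 7 → moveRank (g : Equiv.Perm GolayPt) ≤ 18) := by
  set σ : Equiv.Perm GolayPt := (g : Equiv.Perm GolayPt)
  have hfix : σ none = none := g.2.2
  have hcard : Nat.card {a // σ a = a} = (Finset.univ.filter fun a => σ a = a).card := by
    rw [Nat.card_eq_fintype_card, Fintype.card_subtype]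
  have hpos : (Finset.univ.filter fun a => σ a = a).card ≠ 0 :=
    Finset.card_ne_zero.2 ⟨none, by simp [hfix]⟩
  have ho : orderOf σ = orderOf g := Subgroup.orderOf_coe g
  refine ⟨?_, fun h => ?_, fun h => ?_, fun h => ?_, fun h => ?_⟩
  · have h1 := moveRank_add_orbits σ
    rw [card_golayPt] at h1
    have h2 : 1 < Nat.card (MulAction.orbitRel.Quotient (Subgroup.zpowers σ) GolayPt) := by
      rw [Finite.one_lt_card_iff_nontrivial]
      refine ⟨Quotient.mk _ none, Quotient.mk _ (pt 0), fun e => ?_⟩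
      obtain ⟨⟨k, hk⟩, hk'⟩ := Quotient.exact e
      obtain ⟨i, rfl⟩ := Subgroup.mem_zpowers_iff.1 hk
      have h3 : (σ ^ i) (pt 0) = none := hk'
      conv_rhs at h3 => rw [← Equiv.Perm.zpow_apply_eq_self_of_apply_eq_self hfix i]
      have := congrArg idx ((σ ^ i).injective h3)
      rw [pt_last, idx_pt (by norm_num), idx_pt (by norm_num)] at this
      omega
    omega
  · haveI := Fact.mk Nat.prime_two
    obtain ⟨k, hk, h1⟩ := moveRank_prime (g := σ) (ho.trans h)
    rw [card_golayPt] at h1 hk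
    rw [hcard] at hk
    rcases Cfsg.Agent.M24Orbits.two_classes g.2.1 (ho.trans h) with ⟨e, -⟩ | ⟨e, -⟩
    · have e' : (Finset.univ.filter fun a => σ a = a).card = 8 := by convert e
      omega
    · refine absurd ?_ hpos
      convert e
  · haveI := Fact.mk Nat.prime_three
    obtain ⟨k, hk, h1⟩ := moveRank_prime (g := σ) (ho.trans h)
    rw [card_golayPt] at h1 hk
    rw [hcard] at hk
    rcases Cfsg.Agent.M24Orbits.three_classes g.2.1 (ho.trans h) with ⟨e, -⟩ | ⟨e, -⟩
    · have e' : (Finset.univ.filter fun a => σ a = a).card = 6 := by convert e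
      omega
    · refine absurd ?_ hpos
      convert e
  · haveI := Fact.mk (show Nat.Prime 5 by norm_num)
    obtain ⟨k, hk, h1⟩ := moveRank_prime (g := σ) (ho.trans h)
    rw [card_golayPt] at h1 hk
    rw [hcard] at hk
    omega
  · haveI := Fact.mk (show Nat.Prime 7 by norm_num)
    obtain ⟨k, hk, h1⟩ := moveRank_prime (g := σ) (ho.trans h)
    rw [card_golayPt] at h1 hk
    rw [hcard] at hk
    omega

theorem sum_ge {x y z : Cfsg.Spor.M23} (hxyz : x * y * z = 1)
    (hgen : Subgroup.closure {x, y} = ⊤) :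
    44 ≤ moveRank (x : Equiv.Perm GolayPt) + moveRank (y : Equiv.Perm GolayPt) +
      moveRank (z : Equiv.Perm GolayPt) := by
  have h := scott (x := (x : Equiv.Perm GolayPt)) (y := y) (z := z)
    (congrArg Subtype.val hxyz) none (pt 0) fun a => by
      rcases eq_or_ne a none with e | e
      · exact Or.inl e
      refine Or.inr ?_
      have h0 : (none : GolayPt) ≠ pt 0 := by decide +kernel
      obtain ⟨g, hg, hm⟩ := exists_mem_M24_list [none, pt 0] [none, a] (by simp [h0])
        (by simp [Ne.symm e]) rfl (by simp)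
      simp only [List.map_cons, List.map_nil, List.cons.injEq, and_true] at hm
      refine ⟨g, ?_, hm.2⟩
      have : Cfsg.Spor.M23 ≤ Subgroup.closure ({(x : Equiv.Perm GolayPt), (y : Equiv.Perm GolayPt)} :
          Set (Equiv.Perm GolayPt)) := by
        have e1 := congrArg (Subgroup.map Cfsg.Spor.M23.subtype) hgen
        rw [MonoidHom.map_closure, Set.image_pair, ← MonoidHom.range_eq_map,
          Subgroup.range_subtype] at e1
        exact e1.ge
      exact this ⟨hg, hm.1⟩
  rw [card_golayPt] at h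
  omega

theorem main (p q r : ℕ) (hp : p.Prime) (hq : q.Prime) (hr : r.Prime) (hpq : p ≤ q) (hqr : q ≤ r)
    (hp2 : ¬ (p = 2 ∧ q = 2))
    (hdvd : p ∣ 10200960 ∧ q ∣ 10200960 ∧ r ∣ 10200960) :
    (∃ x y z : Cfsg.Spor.M23, orderOf x = p ∧ orderOf y = q ∧ orderOf z = r ∧ x * y * z = 1 ∧
        Subgroup.closure {x, y} = ⊤) ↔
      ¬ ((p = 2 ∧ q = 3) ∨ (p = 2 ∧ q = 5 ∧ r = 5) ∨ (p = 2 ∧ q = 5 ∧ r = 7) ∨ (p = 3 ∧ q = 3 ∧ r ≤ 7)) := by
  constructor
  · rintro ⟨x, y, z, rfl, rfl, rfl, hxyz, hgen⟩ hbad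
    have hs := sum_ge hxyz hgen
    obtain ⟨-, x2, x3, -, -⟩ := moveRank_M23 x
    obtain ⟨-, y2, y3, y5, -⟩ := moveRank_M23 y
    obtain ⟨z22, z2, z3, z5, z7⟩ := moveRank_M23 z
    rcases hbad with ⟨e1, e2⟩ | ⟨e1, e2, e3⟩ | ⟨e1, e2, e3⟩ | ⟨e1, e2, e3⟩
    · have := x2 e1; have := y3 e2; omega
    · have := x2 e1; have := y5 e2; have := z5 e3; omega
    · have := x2 e1; have := y5 e2; have := z7 e3; omega
    · have := x3 e1; have := y3 e2
      have h6 := mem_primes6 hr hdvd.2.2
      simp only [primes6, List.mem_cons, List.not_mem_nil, or_false] at h6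
      rcases h6 with e | e | e | e | e | e
      · omega
      · have := z3 e; omega
      · have := z5 e; omega
      · have := z7 e; omega
      · omega
      · omega
  · intro hgood
    have h := triples_cover
    simp only [List.all_eq_true, List.any_eq_true, Bool.or_eq_true, Bool.and_eq_true,
      Bool.not_eq_true', beq_iff_eq, Bool.and_eq_false_iff, decide_eq_false_iff_not] at h
    rcases h p (mem_primes6 hp hdvd.1) q (mem_primes6 hq hdvd.2.1) r (mem_primes6 hr hdvd.2.2) with
      (((h | h) | h) | h) | ⟨e, he, ⟨e1, e2⟩, e3⟩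
    · exact absurd hpq h
    · exact absurd hqr h
    · exact absurd h hp2
    · simp only [badB, Bool.or_eq_true, Bool.and_eq_true, beq_iff_eq, decide_eq_true_eq] at h
      exact absurd (by tauto) hgood
    · exact exists_of_record hp hq hr (List.all_eq_true.1 triples_ok e he) ⟨e1, e2, e3⟩

end Cfsg.Agent.TwoGroups.MathieuTriples
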